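import Mathlib.CategoryTheory.Preadditive.Biproducts
import Mathlib.CategoryTheory.Endomorphism
import Mathlib.LinearAlgebra.Matrix.GeneralLinearGroup.Card
import Mathlib.RingTheory.LittleWedderburn
import Mathlib.CategoryTheory.Limits.Shapes.BinaryBiproducts

/-!
# Automorphism groups of finite sums
-/

set_option autoImplicit false

universe v u

open CategoryTheory CategoryTheory.Limits

namespace Groth.Agent.AutCard17

variable {C : Type u} [Category.{v} C] [Preadditive C]

theorem corner₁ {A B : C} [HasBinaryBiproduct A B] (hab : ∀ f : A ⟶ B, f = 0) (y x : A ⊞ B ⟶ A ⊞ B) :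
    biprod.inl ≫ (y ≫ x) ≫ biprod.fst = (biprod.inl ≫ y ≫ biprod.fst) ≫ (biprod.inl ≫ x ≫ biprod.fst) := by
  conv_lhs => rw [show y = y ≫ biprod.fst ≫ biprod.inl + y ≫ biprod.snd ≫ biprod.inr by
    rw [← Preadditive.comp_add, biprod.total, Category.comp_id]]
  have hz : biprod.inl ≫ y ≫ biprod.snd ≫ biprod.inr ≫ x ≫ biprod.fst = 0 := by
    rw [reassoc_of% (hab (biprod.inl ≫ y ≫ biprod.snd)), zero_comp]
  simp only [Category.assoc, Preadditive.add_comp, Preadditive.comp_add]
  rw [hz, add_zero]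

theorem corner₂ {A B : C} [HasBinaryBiproduct A B] (hba : ∀ f : B ⟶ A, f = 0) (y x : A ⊞ B ⟶ A ⊞ B) :
    biprod.inr ≫ (y ≫ x) ≫ biprod.snd = (biprod.inr ≫ y ≫ biprod.snd) ≫ (biprod.inr ≫ x ≫ biprod.snd) := by
  conv_lhs => rw [show y = y ≫ biprod.fst ≫ biprod.inl + y ≫ biprod.snd ≫ biprod.inr by
    rw [← Preadditive.comp_add, biprod.total, Category.comp_id]]
  have hz : biprod.inr ≫ y ≫ biprod.fst ≫ biprod.inl ≫ x ≫ biprod.snd = 0 := by
    rw [reassoc_of% (hba (biprod.inr ≫ y ≫ biprod.fst)), zero_comp]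
  simp only [Category.assoc, Preadditive.add_comp, Preadditive.comp_add]
  rw [hz, zero_add]

/-- The endomorphism monoid of a sum without maps between the summands. -/
noncomputable def endBiprodEquiv {A B : C} [HasBinaryBiproduct A B] (hab : ∀ f : A ⟶ B, f = 0)
    (hba : ∀ f : B ⟶ A, f = 0) : End (A ⊞ B) ≃* End A × End B where
  toFun x := (biprod.inl ≫ x ≫ biprod.fst, biprod.inr ≫ x ≫ biprod.snd)
  invFun p := biprod.map p.1 p.2
  left_inv x := by
    apply biprod.hom_ext' <;> apply biprod.hom_ext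
    · simp
    · simp [hab (biprod.inl ≫ (x : A ⊞ B ⟶ A ⊞ B) ≫ biprod.snd)]
    · simp [hba (biprod.inr ≫ (x : A ⊞ B ⟶ A ⊞ B) ≫ biprod.fst)]
    · simp
  right_inv p := by simp
  map_mul' x y := Prod.ext (corner₁ hab y x) (corner₂ hba y x)

theorem card_aut_eq_card_units (A : C) : Nat.card (Aut A) = Nat.card (End A)ˣ :=
  Nat.card_congr (Aut.unitsEndEquivAut A).toEquiv.symm

theorem card_aut_congr {A B : C} (e : A ≅ B) : Nat.card (Aut A) = Nat.card (Aut B) :=
  Nat.card_congr
    { toFun := fun f => e.symm ≪≫ f ≪≫ e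
      invFun := fun g => e ≪≫ g ≪≫ e.symm
      left_inv := fun (f : A ≅ A) => Iso.ext (by simp)
      right_inv := fun (g : B ≅ B) => Iso.ext (by simp) }

theorem card_aut_biprod {A B : C} [HasBinaryBiproduct A B] (hab : ∀ f : A ⟶ B, f = 0)
    (hba : ∀ f : B ⟶ A, f = 0) : Nat.card (Aut (A ⊞ B)) = Nat.card (Aut A) * Nat.card (Aut B) := by
  rw [card_aut_eq_card_units, card_aut_eq_card_units, card_aut_eq_card_units, ← Nat.card_prod]
  exact Nat.card_congr ((Units.mapEquiv (endBiprodEquiv hab hba)).trans MulEquiv.prodUnits).toEquiv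

/-- An entry of a composite. -/
theorem entry_comp {L : C} {n : ℕ} [HasBiproduct fun _ : Fin n => L]
    (y x : (⨁ fun _ : Fin n => L) ⟶ ⨁ fun _ : Fin n => L) (i j : Fin n) :
    biproduct.ι (fun _ : Fin n => L) j ≫ (y ≫ x) ≫ biproduct.π (fun _ : Fin n => L) i =
      ∑ l, (biproduct.ι (fun _ : Fin n => L) j ≫ y ≫ biproduct.π (fun _ : Fin n => L) l) ≫
        (biproduct.ι (fun _ : Fin n => L) l ≫ x ≫ biproduct.π (fun _ : Fin n => L) i) := by
  conv_lhs => rw [show y = ∑ l, (y ≫ biproduct.π (fun _ : Fin n => L) l) ≫ biproduct.ι (fun _ : Fin n => L) l by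
    simp only [Category.assoc, ← Preadditive.comp_sum, biproduct.total, Category.comp_id]]
  rw [Preadditive.sum_comp, Preadditive.sum_comp, Preadditive.comp_sum]
  refine Finset.sum_congr rfl fun l _ => ?_
  simp only [Category.assoc]

/-- Endomorphisms of a power are matrices of endomorphisms. -/
noncomputable def endPowEquiv (L : C) (n : ℕ) [HasBiproduct fun _ : Fin n => L] :
    End (⨁ fun _ : Fin n => L) ≃* Matrix (Fin n) (Fin n) (End L) where
  toFun x := Matrix.of fun i j => (biproduct.ι (fun _ : Fin n => L) j ≫ x ≫ biproduct.π (fun _ : Fin n => L) i : End L)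
  invFun M := biproduct.desc fun j => biproduct.lift fun i => M i j
  left_inv x := by
    apply biproduct.hom_ext'; intro j
    apply biproduct.hom_ext; intro i
    simp
  right_inv M := by
    funext i j
    simp
  map_mul' x y := by
    refine Matrix.ext fun i j => Eq.trans ?_ (Matrix.mul_apply (i := i) (k := j)).symm
    exact entry_comp (x := x) (y := y) i j

theorem card_units_matrix {R : Type v} [Ring R] [Nontrivial R] [Finite R] (h : ∀ a : R, IsUnit a ∨ a = 0) (n : ℕ) :
    Nat.card (Matrix (Fin n) (Fin n) R)ˣ = ∏ i : Fin n, (Nat.card R ^ n - Nat.card R ^ (i : ℕ)) := by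
  classical
  letI := DivisionRing.ofIsUnitOrEqZero h
  letI : Field R := littleWedderburn R
  letI : Fintype R := Fintype.ofFinite R
  rw [Nat.card_eq_fintype_card (α := R)]
  exact Matrix.card_GL_field n

theorem card_aut_pow (L : C) (n : ℕ) [HasBiproduct fun _ : Fin n => L] [Nontrivial (End L)] [Finite (End L)]
    (h : ∀ a : End L, IsUnit a ∨ a = 0) :
    Nat.card (Aut (⨁ fun _ : Fin n => L)) = ∏ i : Fin n, (Nat.card (End L) ^ n - Nat.card (End L) ^ (i : ℕ)) := by
  rw [card_aut_eq_card_units, ← card_units_matrix h n]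
  exact Nat.card_congr (Units.mapEquiv (endPowEquiv L n)).toEquiv

section

variable [HasFiniteBiproducts C] [HasBinaryBiproducts C]

/-- Two copies. -/
noncomputable def twoIso (L : C) : L ⊞ L ≅ ⨁ fun _ : Fin 2 => L where
  hom := biprod.desc (biproduct.ι (fun _ : Fin 2 => L) 0) (biproduct.ι (fun _ : Fin 2 => L) 1)
  inv := biproduct.desc fun i => if i = 0 then biprod.inl else biprod.inr
  hom_inv_id := by apply biprod.hom_ext' <;> simp
  inv_hom_id := by
    apply biproduct.hom_ext'; intro i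
    fin_cases i <;> simp

/-- Three copies. -/
noncomputable def threeIso (L : C) : (L ⊞ L) ⊞ L ≅ ⨁ fun _ : Fin 3 => L where
  hom := biprod.desc (biprod.desc (biproduct.ι (fun _ : Fin 3 => L) 0) (biproduct.ι (fun _ : Fin 3 => L) 1))
    (biproduct.ι (fun _ : Fin 3 => L) 2)
  inv := biproduct.desc fun i => if i = 0 then biprod.inl ≫ biprod.inl else
    if i = 1 then biprod.inr ≫ biprod.inl else biprod.inr
  hom_inv_id := by
    apply biprod.hom_ext'
    · apply biprod.hom_ext' <;> simp
    · simp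
  inv_hom_id := by
    apply biproduct.hom_ext'; intro i
    fin_cases i <;> simp

end

end Groth.Agent.AutCard17
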