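import Groth.Agent.Lib.AutCard17.Basic
import Groth.Agent.Lib.VB17.Pair
import Groth.Agent.Lib.VB17.Duality
import Groth.Agent.Lib.VB17.Proper
import Groth.Agent.S1536

/-!
# Endomorphisms of line bundles on curves over finite fields
-/

set_option autoImplicit false
set_option linter.style.haveILetI false

universe u

open CategoryTheory CategoryTheory.Limits AlgebraicGeometry TopologicalSpace

namespace Groth.Agent.AutCard17

open Groth.Agent.M1 Groth.Agent.M2 Groth.Agent.CurveCoh17

variable {k : Type u} [Field k] {X : Scheme.{u}} [X.Over (Spec (CommRingCat.of k))]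

/-- Maps out of the structure module are global sections. -/
noncomputable def homEquivGamma (M : X.Modules) : (Coh.structureModule X ⟶ M) ≃ Γ(M, (⊤ : X.Opens)) where
  toFun f := f.app ⊤ (M1.one ⊤)
  invFun s := M1.secHom s
  left_inv _ := M1.unit_hom_ext (M1.secHom_app_one _)
  right_inv s := M1.secHom_app_one s

theorem natCard_hh0 [Finite k] {M : X.Modules} [Module.Finite k (Coh.HH X M 0)] :
    Nat.card (Coh.structureModule X ⟶ M) = Nat.card k ^ Module.finrank k (Coh.HH X M 0) := by
  rw [Nat.card_congr (homEquivGamma M), ← Nat.card_congr (hh0 M).toEquiv,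
    Module.natCard_eq_pow_finrank (K := k)]

/-- The endomorphisms of an invertible module are those of the structure module. -/
theorem natCard_end {L : X.Modules} (hL : PicF.IsInvertible L) :
    Nat.card (End L) = Nat.card (End (Coh.structureModule X)) := by
  haveI := VB17.isEquivalence_tensorR hL
  let e := tensorLUnit L
  refine (Nat.card_congr ?_).symm
  exact (Functor.FullyFaithful.ofFullyFaithful (tensorR L)).homEquiv.trans (e.homCongr e)

theorem hom_eq_zero_or_isIso (hX : VB17.RegCurve k X) {A B : X.Modules} (hA : PicF.IsInvertible A)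
    (hB : PicF.IsInvertible B) (hd : Curv2.deg k X A 1 = Curv2.deg k X B 1) (f : A ⟶ B) : f = 0 ∨ IsIso f := by
  by_cases hf : f = 0
  · exact Or.inl hf
  haveI := hX.integral
  haveI := VB17.mono_of_ne_zero hX hA hB f hf
  exact Or.inr ((VB17.deg_le_of_mono hX.like ((isInvertible_iff_isFinLocFreeOfRank_one A).1 hA)
    ((isInvertible_iff_isFinLocFreeOfRank_one B).1 hB) f).2 hd)

theorem hom_eq_zero (hX : VB17.RegCurve k X) {A B : X.Modules} (hA : PicF.IsInvertible A)
    (hB : PicF.IsInvertible B) (hd : Curv2.deg k X A 1 = Curv2.deg k X B 1) (hn : ¬ Nonempty (A ≅ B))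
    (f : A ⟶ B) : f = 0 :=
  (hom_eq_zero_or_isIso hX hA hB hd f).resolve_right fun h => hn ⟨@asIso _ _ _ _ f h⟩

/-- The facts about the endomorphism ring of an invertible module. -/
theorem end_facts [Finite k] (hX : VB17.RegCurve k X)
    (h0 : Module.finrank k (Coh.HH X (Coh.structureModule X) 0) = 1) {L : X.Modules} (hL : PicF.IsInvertible L) :
    Nat.card (End L) = Nat.card k ∧ Finite (End L) ∧ Nontrivial (End L) ∧ ∀ a : End L, IsUnit a ∨ a = 0 := by
  haveI := hX.integral
  haveI : Module.Finite k (Coh.HH X (Coh.structureModule X) 0) := Module.finite_of_finrank_eq_succ h0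
  have hc : Nat.card (End L) = Nat.card k := by
    rw [natCard_end hL]
    show Nat.card (Coh.structureModule X ⟶ Coh.structureModule X) = _
    rw [natCard_hh0 (k := k), h0, pow_one]
  haveI hfin : Finite (End L) := Nat.finite_of_card_ne_zero (by rw [hc]; exact Nat.card_pos.ne')
  refine ⟨hc, hfin, Finite.one_lt_card_iff_nontrivial.1 (hc ▸ Finite.one_lt_card), fun a => ?_⟩
  rcases hom_eq_zero_or_isIso hX hL hL rfl (a : L ⟶ L) with h | h
  · exact Or.inr h
  · exact Or.inl ((isUnit_iff_isIso _).2 h)

theorem card_aut_invertible_pow [Finite k] (hX : VB17.RegCurve k X)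
    (h0 : Module.finrank k (Coh.HH X (Coh.structureModule X) 0) = 1) {L : X.Modules} (hL : PicF.IsInvertible L)
    (n : ℕ) [HasBiproduct fun _ : Fin n => L] :
    Nat.card (Aut (⨁ fun _ : Fin n => L)) = ∏ i : Fin n, (Nat.card k ^ n - Nat.card k ^ (i : ℕ)) := by
  obtain ⟨hc, _, _, hu⟩ := end_facts hX h0 hL
  rw [card_aut_pow L n hu, hc]

theorem card_aut_invertible [Finite k] (hX : VB17.RegCurve k X)
    (h0 : Module.finrank k (Coh.HH X (Coh.structureModule X) 0) = 1) {L : X.Modules} (hL : PicF.IsInvertible L) :
    Nat.card (Aut L) = Nat.card k - 1 := by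
  obtain ⟨hc, _, _, hu⟩ := end_facts hX h0 hL
  classical
  letI := DivisionRing.ofIsUnitOrEqZero hu
  rw [card_aut_eq_card_units, ← hc]
  exact Nat.card_units (End L)

end Groth.Agent.AutCard17
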